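import Mathlib
import Cfsg.Agent.H205.Gen
set_option linter.all false

/-!
# Inner automorphisms inside the images of the orthogonal groups, odd characteristic (helper205)

`sg s = spinorSign Q 1 s`; `sm = sg (-1)`.

* `inn_relIndex_pso_one`, `inn_relIndex_pso_two` : `[psoAut : Inn]` is 1 or 2 according to `sg (-1)`;
* `pgo_mod_inn_dihedral`, `pgo_mod_inn_klein`;
* `pd_mod_inn_two`, `pd_mod_inn_four`, `pd_mod_inn_klein`.
-/

set_option autoImplicit false
set_option linter.style.haveILetI false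
set_option linter.unusedSectionVars false

namespace Cfsg.Agent.H205.GenInn

open Matrix QuadraticMap
open Cfsg.Agent.LieClassical.OrthCore Cfsg.Agent.LieClassical.OrthTrans
open Cfsg.Agent.H198.OrthFrame Cfsg.Agent.H205.Gen
open Cfsg.Agent.H198.ClassesPlus (mu mu_spec mu_unique mu_eq_one_iff dt dt_apply)
open Cfsg.Agent.ClassicalGeometry.Reflection Cfsg.Agent.ClassicalGeometry.SpinorSign
open Cfsg.Agent.ClassicalGeometry.OmegaIndex Cfsg.Agent.ClassicalGeometry.Universal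

universe u

variable {ι : Type} [Fintype ι] [DecidableEq ι] {F : Type u} [Field F] [Finite F]
variable {Q : QuadraticForm F (ι → F)} {n : ℕ}

/-- The spinor sign. -/
noncomputable def sg (Q : QuadraticForm F (ι → F)) : isometryGroup F (⇑Q) →* ℤˣ :=
  spinorSign (⇑Q) 1

open scoped Classical in
theorem sg_reflIso (h2 : (2 : F) ≠ 0) {v : ι → F} (hv : Q v ≠ 0) :
    sg Q (reflIso Q v hv) = -chi F (Units.mk0 (Q v) hv) := by
  have h := spinorSign_reflIso h2 Q (one_ne_zero (α := F)) v hv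
  rw [one_mul] at h
  unfold sg
  rw [h]
  by_cases h1 : IsSquare (Q v)
  · rw [if_pos h1, (chi_eq_one_iff (Units.mk0 (Q v) hv)).2 h1]
  · rw [if_neg h1, (chi_eq_neg_one_iff (Units.mk0 (Q v) hv)).2 h1, neg_neg]

omit [Finite F] in
/-- The isometry `-1`. -/
def ngI (Q : QuadraticForm F (ι → F)) : isometryGroup F (⇑Q) :=
  ⟨-1, (mem_isometryGroup_iff _ _).2 fun v => by
    rw [Units.val_neg, Units.val_one, neg_mulVec, one_mulVec, QuadraticMap.map_neg]⟩

omit [Finite F] in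
theorem ngI_mulVec (v : ι → F) : (((ngI Q : GL ι F)) : Matrix ι ι F) *ᵥ v = -v := by
  change ((-1 : GL ι F) : Matrix ι ι F) *ᵥ v = -v
  rw [Units.val_neg, Units.val_one, neg_mulVec, one_mulVec]

omit [Finite F] in
theorem det_ngI (hn : Fintype.card ι = 2 * n) : ((ngI Q : GL ι F) : Matrix ι ι F).det = 1 := by
  change ((-1 : GL ι F) : Matrix ι ι F).det = 1
  rw [Units.val_neg, Units.val_one, Matrix.det_neg, Matrix.det_one, mul_one, hn, pow_mul]
  simp

omit [Finite F] in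
theorem incI_ngI : incI Q (ngI Q) = scS Q (-1) := by
  apply Subtype.ext
  apply Units.ext
  apply Matrix.mulVec_injective
  funext v
  rw [coe_incI, ngI_mulVec, scS_mulVec, Units.val_neg, Units.val_one, neg_one_smul]

theorem mem_Omega (hG : Good Q) (h2 : (2 : F) ≠ 0) (s : isometryGroup F (⇑Q)) :
    s ∈ Omega F (⇑Q) ↔ ((s : GL ι F) : Matrix ι ι F).det = 1 ∧ sg Q s = 1 := by
  have hd : 2 ≤ Fintype.card ι := by
    have := hG.dim
    rw [Module.finrank_fintype_fun_eq_card] at this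
    omega
  exact mem_Omega_iff h2 Q (nondeg_bilin hG) hd one_ne_zero s

variable (hG : Good Q) (h2 : (2 : F) ≠ 0) (hn : Fintype.card ι = 2 * n)

include hG h2 hn

/-- When does an isometry induce an inner automorphism? -/
theorem mem_inn_iff (s : isometryGroup F (⇑Q)) :
    S hG (incI Q s) ∈ Inn (POmega F ⇑Q) ↔
      ((s : GL ι F) : Matrix ι ι F).det = 1 ∧ (sg Q s = 1 ∨ sg Q s = sg Q (ngI Q)) := by
  rw [inn_eq hG]
  constructor
  · rintro ⟨w, hw, hws⟩
    obtain ⟨h, hw'⟩ := mem_omGL.1 (show w.1 ∈ omGL Q from hw)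
    obtain ⟨hd, hs⟩ := (mem_Omega hG h2 _).1 hw'
    obtain ⟨a, ha⟩ := (S_eq_iff hG (incI Q s) w).1 hws.symm
    have hw1 : w = incI Q ⟨w.1, h⟩ := rfl
    have h3 : a * a = 1 := by
      have h4 := congrArg (mu hG) ha
      rw [mu_incI, map_mul, mu_scS, hw1, mu_incI, mul_one] at h4
      exact h4.symm
    have h5 : a = 1 ∨ a = -1 := by
      have h6 : (a : F) ^ 2 = 1 := by
        rw [pow_two, ← Units.val_mul, h3, Units.val_one]
      rcases sq_eq_one_iff.1 h6 with h7 | h7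
      · left; exact Units.ext h7
      · right; exact Units.ext h7
    rcases h5 with rfl | rfl
    · rw [map_one, one_mul] at ha
      have h6 : s = ⟨w.1, h⟩ := Subtype.ext (congrArg (fun z : Sim Q => z.1) ha)
      rw [h6]
      exact ⟨hd, Or.inl hs⟩
    · rw [← incI_ngI, hw1, ← map_mul] at ha
      have h6 : s = ngI Q * ⟨w.1, h⟩ := Subtype.ext (congrArg (fun z : Sim Q => z.1) ha)
      rw [h6]
      refine ⟨?_, Or.inr ?_⟩
      · rw [Subgroup.coe_mul, Units.val_mul, Matrix.det_mul, det_ngI hn, one_mul]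
        exact hd
      · rw [map_mul, hs, mul_one]
  · rintro ⟨h3, h4 | h4⟩
    · exact ⟨incI Q s, mem_omGL.2 ⟨s.2, (mem_Omega hG h2 s).2 ⟨h3, h4⟩⟩, rfl⟩
    · refine ⟨incI Q (ngI Q * s), mem_omGL.2 ⟨(ngI Q * s).2, (mem_Omega hG h2 (ngI Q * s)).2 ⟨?_, ?_⟩⟩, ?_⟩
      · rw [Subgroup.coe_mul, Units.val_mul, Matrix.det_mul, det_ngI hn, one_mul]
        exact h3
      · rw [map_mul, h4]
        rcases Int.units_eq_one_or (sg Q (ngI Q)) with h5 | h5 <;> rw [h5] <;> rfl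
      · rw [map_mul, incI_ngI, S_scS_mul]

theorem mem_pso_iff_det (s : isometryGroup F (⇑Q)) :
    S hG (incI Q s) ∈ psoAut F (⇑Q) ↔ ((s : GL ι F) : Matrix ι ι F).det = 1 := by
  rw [mem_pso_iff' hG h2 hn, mu_incI, map_one, etaS_incI_eq_one_iff]
  simp

theorem exists_of_mem_pso {x : MulAut (POmega F ⇑Q)} (hx : x ∈ psoAut F (⇑Q)) :
    ∃ s : isometryGroup F (⇑Q), ((s : GL ι F) : Matrix ι ι F).det = 1 ∧ x = S hG (incI Q s) := by
  have hx' := hx
  rw [psoAut_eq hG] at hx'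
  obtain ⟨s, hs, rfl⟩ := hx'
  have hs' : s.1 ∈ specialIsometryGL F (⇑Q) := hs
  have h1 : s = incI Q ⟨s.1, hs'.1⟩ := rfl
  rw [h1] at hx ⊢
  exact ⟨_, (mem_pso_iff_det hG h2 hn _).1 hx, rfl⟩

theorem inn_le_pso : Inn (POmega F ⇑Q) ≤ psoAut F (⇑Q) := by
  intro x hx
  have hx' := hx
  rw [inn_eq hG] at hx'
  obtain ⟨w, hw, rfl⟩ := hx'
  obtain ⟨h, hw'⟩ := mem_omGL.1 (show w.1 ∈ omGL Q from hw)
  exact (mem_pso_iff_det hG h2 hn ⟨w.1, h⟩).2 ((mem_Omega hG h2 _).1 hw').1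

omit h2 hn in
theorem pso_le_pgo : psoAut F (⇑Q) ≤ pgoAut F (⇑Q) := by
  rw [psoAut_eq hG, pgoAut_eq hG]
  rintro _ ⟨s, -, rfl⟩
  exact ⟨s, rfl⟩

theorem pso_le_pd : psoAut F (⇑Q) ≤ pd hG h2 hn := by
  intro x hx
  obtain ⟨s, hs, rfl⟩ := exists_of_mem_pso hG h2 hn hx
  exact ⟨incI Q s, (etaS_incI_eq_one_iff hG h2 hn s).2 hs, rfl⟩

/-- If `-1 ∉ Ω`, then every special isometry induces an inner automorphism. -/
theorem pso_eq_inn (hm : sg Q (ngI Q) = -1) : psoAut F (⇑Q) = Inn (POmega F ⇑Q) := by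
  apply le_antisymm _ (inn_le_pso hG h2 hn)
  intro x hx
  obtain ⟨s, hs, rfl⟩ := exists_of_mem_pso hG h2 hn hx
  rw [mem_inn_iff hG h2 hn, hm]
  exact ⟨hs, Int.units_eq_one_or _⟩

omit hn in
/-- Two reflections with values in different square classes. -/
theorem exists_refl_pair (x y : ℤˣ) :
    ∃ (v w : ι → F) (hv : Q v ≠ 0) (hw : Q w ≠ 0), chi F (Units.mk0 (Q v) hv) = x ∧
      chi F (Units.mk0 (Q w) hw) = y := by
  have hd : 2 ≤ Fintype.card ι := by
    have := hG.dim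
    rw [Module.finrank_fintype_fun_eq_card] at this
    omega
  have key : ∀ x : ℤˣ, ∃ (v : ι → F) (hv : Q v ≠ 0), chi F (Units.mk0 (Q v) hv) = x := by
    intro x
    rcases Int.units_eq_one_or x with rfl | rfl
    · obtain ⟨v, hv⟩ := exists_map_eq_of_two_le h2 Q (nondeg_bilin hG) hd 1
      refine ⟨v, by rw [hv]; exact one_ne_zero, ?_⟩
      rw [chi_eq_one_iff, Units.val_mk0, hv]
      exact ⟨1, by ring⟩
    · obtain ⟨a, ha⟩ := FiniteField.exists_nonsquare (ringChar_ne_two h2)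
      have ha0 : a ≠ 0 := by rintro rfl; exact ha IsSquare.zero
      obtain ⟨v, hv⟩ := exists_map_eq_of_two_le h2 Q (nondeg_bilin hG) hd a
      refine ⟨v, by rw [hv]; exact ha0, ?_⟩
      rw [chi_eq_neg_one_iff, Units.val_mk0, hv]
      exact ha
  obtain ⟨v, hv, hv1⟩ := key x
  obtain ⟨w, hw, hw1⟩ := key y
  exact ⟨v, w, hv, hw, hv1, hw1⟩

omit hn in
/-- There is a special isometry with spinor sign `-1`. -/
theorem exists_special : ∃ s : isometryGroup F (⇑Q), ((s : GL ι F) : Matrix ι ι F).det = 1 ∧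
    sg Q s = -1 := by
  obtain ⟨v, w, hv, hw, h3, h4⟩ := exists_refl_pair hG h2 1 (-1)
  refine ⟨reflIso Q v hv * reflIso Q w hw, ?_, ?_⟩
  · rw [Subgroup.coe_mul, Units.val_mul, Matrix.det_mul, det_reflIso, det_reflIso]
    ring
  · rw [map_mul, sg_reflIso h2, sg_reflIso h2, h3, h4]
    rfl

theorem inn_relIndex_pso_one (hm : sg Q (ngI Q) = -1) :
    (Inn (POmega F ⇑Q)).relIndex (psoAut F (⇑Q)) = 1 := by
  rw [pso_eq_inn hG h2 hn hm, Subgroup.relIndex_self]

theorem inn_relIndex_pso_two (hm : sg Q (ngI Q) = 1) :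
    (Inn (POmega F ⇑Q)).relIndex (psoAut F (⇑Q)) = 2 := by
  set D : Subgroup (isometryGroup F (⇑Q)) := ((dt (Q := Q)).comp (incI Q)).ker with hD
  have hmem : ∀ s : isometryGroup F (⇑Q), s ∈ D ↔ ((s : GL ι F) : Matrix ι ι F).det = 1 := by
    intro s
    rw [hD, MonoidHom.mem_ker, ← Units.val_inj, Units.val_one]
    rfl
  obtain ⟨φ, h1, h3⟩ := Abs.exists_of_comap (P := psoAut F (⇑Q)) (I := Inn (POmega F ⇑Q))
    (((S hG).comp (incI Q)).comp D.subtype) (by
      ext x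
      constructor
      · intro hx
        obtain ⟨s, hs, rfl⟩ := exists_of_mem_pso hG h2 hn hx
        exact ⟨⟨s, (hmem s).2 hs⟩, rfl⟩
      · rintro ⟨s, rfl⟩
        exact (mem_pso_iff_det hG h2 hn s.1).2 ((hmem s.1).1 s.2))
    ((sg Q).comp D.subtype) (by
      intro x
      rcases Int.units_eq_one_or x with hx | hx
      · exact ⟨1, by rw [map_one, hx]⟩
      · obtain ⟨s, hs, hs2⟩ := exists_special hG h2
        exact ⟨⟨s, (hmem s).2 hs⟩, by rw [hx]; exact hs2⟩) (by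
      ext s
      rw [MonoidHom.mem_ker, Subgroup.mem_comap, MonoidHom.comp_apply, MonoidHom.comp_apply,
        MonoidHom.comp_apply, Subgroup.coe_subtype, mem_inn_iff hG h2 hn, hm, or_self]
      exact ⟨fun h => ⟨(hmem s.1).1 s.2, h⟩, fun h => h.2⟩)
  rw [Subgroup.relIndex, ← h3, Subgroup.index_ker, MonoidHom.range_eq_top.2 h1, Subgroup.card_top]
  simp

omit h2 hn in
/-- Conjugation of a reflection by a similarity. -/
theorem conj_refl (d : Sim Q) {v : ι → F} (hv : Q v ≠ 0)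
    (hv' : Q ((d.1 : Matrix ι ι F) *ᵥ v) ≠ 0) :
    d * incI Q (reflIso Q v hv) * d⁻¹ = incI Q (reflIso Q ((d.1 : Matrix ι ι F) *ᵥ v) hv') := by
  rw [mul_inv_eq_iff_eq_mul]
  apply Subtype.ext
  apply Units.ext
  apply Matrix.mulVec_injective
  funext x
  rw [Subgroup.coe_mul, coe_mulVec_mul, Subgroup.coe_mul, coe_mulVec_mul, coe_incI, coe_incI,
    coe_reflIso, coe_reflIso, reflectionMatrix_mulVec, reflectionMatrix_mulVec,
    polar_mulVec hG, mu_spec hG, mulVec_sub, mulVec_smul]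
  congr 2
  rw [mul_inv]
  have := (mu hG d).ne_zero
  field_simp

omit h2 hn in
theorem Q_ne (d : Sim Q) {v : ι → F} (hv : Q v ≠ 0) : Q ((d.1 : Matrix ι ι F) *ᵥ v) ≠ 0 := by
  rw [mu_spec hG]
  exact mul_ne_zero (mu hG d).ne_zero hv

/-- The commutator of a reflection and a similarity with non-square multiplier is not inner. -/
theorem comm_not_inn (hm : sg Q (ngI Q) = 1) {d : Sim Q} (hd : chi F (mu hG d) = -1) {v : ι → F}
    (hv : Q v ≠ 0) :
    (S hG (incI Q (reflIso Q v hv)) * S hG d)⁻¹ * (S hG d * S hG (incI Q (reflIso Q v hv))) ∉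
      Inn (POmega F ⇑Q) := by
  have hv' := Q_ne hG d⁻¹ hv
  have h3 := conj_refl hG d⁻¹ hv hv'
  rw [inv_inv] at h3
  have h4 : (S hG (incI Q (reflIso Q v hv)) * S hG d)⁻¹ * (S hG d * S hG (incI Q (reflIso Q v hv))) =
      S hG (incI Q (reflIso Q _ hv' * reflIso Q v hv)) := by
    rw [← map_mul, ← map_mul, ← map_inv, ← map_mul, map_mul (incI Q) _ (reflIso Q v hv), ← h3, _root_.mul_inv_rev,
      ← map_inv (incI Q), reflIso_inv]
    simp only [mul_assoc]
  rw [h4, mem_inn_iff hG h2 hn, hm, or_self]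
  rintro ⟨-, h5⟩
  rw [map_mul, sg_reflIso h2, sg_reflIso h2] at h5
  have h6 : Units.mk0 (Q (((d⁻¹ : Sim Q).1 : Matrix ι ι F) *ᵥ v)) hv' = mu hG d⁻¹ * Units.mk0 (Q v) hv := by
    apply Units.ext
    rw [Units.val_mk0, mu_spec hG, Units.val_mul, Units.val_mk0]
  rw [h6, map_mul, map_inv, map_inv, hd] at h5
  rcases Int.units_eq_one_or (chi F (Units.mk0 (Q v) hv)) with h7 | h7 <;> rw [h7] at h5 <;>
    exact absurd h5 (by decide)

section Main

variable {d : Sim Q} (hd : chi F (mu hG d) = -1) (hd2 : etaS hG h2 hn d = 1)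

include hd hd2

theorem inn_relIndex_pgo (hm : sg Q (ngI Q) = 1) :
    (Inn (POmega F ⇑Q)).relIndex (pgoAut F (⇑Q)) = 8 := by
  rw [← Subgroup.relIndex_mul_relIndex _ _ _ (inn_le_pso hG h2 hn) (pso_le_pgo hG),
    inn_relIndex_pso_two hG h2 hn hm, pso_relIndex_pgo hG h2 hn hd hd2]

theorem inn_relIndex_pd_four (hm : sg Q (ngI Q) = 1) :
    (Inn (POmega F ⇑Q)).relIndex (pd hG h2 hn) = 4 := by
  rw [← Subgroup.relIndex_mul_relIndex _ _ _ (inn_le_pso hG h2 hn) (pso_le_pd hG h2 hn),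
    inn_relIndex_pso_two hG h2 hn hm, pso_relIndex_pd hG h2 hn hd hd2]

theorem inn_relIndex_pd_two (hm : sg Q (ngI Q) = -1) :
    (Inn (POmega F ⇑Q)).relIndex (pd hG h2 hn) = 2 := by
  rw [← pso_eq_inn hG h2 hn hm, pso_relIndex_pd hG h2 hn hd hd2]

omit hG h2 hn hd hd2 [Finite F] in
theorem inn_normal : (Inn (POmega F ⇑Q)).Normal := by
  constructor
  rintro _ ⟨x, rfl⟩ a
  refine ⟨a x, ?_⟩
  ext y
  simp [MulAut.conj_apply]

/-- **`-1 ∈ Ω`: `pgoAut / Inn` is dihedral of order eight.** -/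
theorem pgo_mod_inn_dihedral (hm : sg Q (ngI Q) = 1) :
    ∃ φ : ↥(pgoAut F (⇑Q)) →* DihedralGroup 4, Function.Surjective φ ∧
      φ.ker = (Inn (POmega F ⇑Q)).subgroupOf (pgoAut F (⇑Q)) := by
  haveI := inn_normal (Q := Q)
  obtain ⟨v, -, hv, -, -, -⟩ := exists_refl_pair hG h2 1 1
  refine Abs.exists_hom_dihedral (inn_relIndex_pgo hG h2 hn hd hd2 hm)
    (x := S hG (incI Q (reflIso Q v hv))) (y := S hG d) ?_ ?_ ?_ (comm_not_inn hG h2 hn hm hd hv)
  · rw [pgoAut_eq hG]; exact ⟨_, rfl⟩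
  · rw [pgoAut_eq hG]; exact ⟨_, rfl⟩
  · rw [← map_mul, ← map_mul, reflIso_mul_self, map_one, map_one]
    exact one_mem _

/-- **`-1 ∉ Ω`: `pgoAut / Inn` is elementary abelian of order four.** -/
theorem pgo_mod_inn_klein (hm : sg Q (ngI Q) = -1) :
    ∃ φ : ↥(pgoAut F (⇑Q)) →* Multiplicative (ZMod 2 × ZMod 2), Function.Surjective φ ∧
      φ.ker = (Inn (POmega F ⇑Q)).subgroupOf (pgoAut F (⇑Q)) := by
  rw [← pso_eq_inn hG h2 hn hm]
  exact conformal_mod_special hG h2 hn hd hd2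

/-- **`-1 ∉ Ω`: the proper part modulo `Inn` is cyclic of order two.** -/
theorem pd_mod_inn_two (hm : sg Q (ngI Q) = -1) :
    ∃ φ : ↥(pd hG h2 hn) →* Multiplicative (ZMod 2), Function.Surjective φ ∧
      φ.ker = (Inn (POmega F ⇑Q)).subgroupOf (pd hG h2 hn) := by
  haveI := inn_normal (Q := Q)
  exact Abs.exists_hom_two (inn_relIndex_pd_two hG h2 hn hd hd2 hm)

theorem S_mem_pd : S hG d ∈ pd hG h2 hn := ⟨d, hd2, rfl⟩

/-- The square of `d` is an isometry up to a scalar. -/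
theorem S_sq {s : isometryGroup F (⇑Q)} (c : Fˣ) (hs : ∀ v : ι → F,
    (d.1 : Matrix ι ι F) *ᵥ ((d.1 : Matrix ι ι F) *ᵥ v) = (c : F) • (((s : GL ι F) : Matrix ι ι F) *ᵥ v)) :
    S hG d * S hG d = S hG (incI Q s) := by
  rw [← map_mul, S_eq_iff]
  refine ⟨c, ?_⟩
  apply Subtype.ext
  apply Units.ext
  apply Matrix.mulVec_injective
  funext v
  rw [Subgroup.coe_mul, coe_mulVec_mul, Subgroup.coe_mul, coe_mulVec_mul, hs, scS_mulVec]
  rfl

/-- **`-1 ∈ Ω` and `d² / c` outside `Ω`: cyclic of order four.** -/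
theorem pd_mod_inn_four (hm : sg Q (ngI Q) = 1) {s : isometryGroup F (⇑Q)} (c : Fˣ)
    (hs : ∀ v : ι → F, (d.1 : Matrix ι ι F) *ᵥ ((d.1 : Matrix ι ι F) *ᵥ v) =
      (c : F) • (((s : GL ι F) : Matrix ι ι F) *ᵥ v)) (hs1 : sg Q s = -1) :
    ∃ φ : ↥(pd hG h2 hn) →* Multiplicative (ZMod 4), Function.Surjective φ ∧
      φ.ker = (Inn (POmega F ⇑Q)).subgroupOf (pd hG h2 hn) := by
  haveI := inn_normal (Q := Q)
  refine Abs.exists_hom_four (inn_relIndex_pd_four hG h2 hn hd hd2 hm)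
    (S_mem_pd hG h2 hn hd hd2) ?_
  rw [S_sq hG h2 hn hd hd2 c hs, mem_inn_iff hG h2 hn, hm, or_self, hs1]
  rintro ⟨-, h⟩
  exact absurd h (by decide)

omit hG h2 hn hd hd2 [Finite F] in
theorem sq_of_two {W : Type*} [Group W] (h : Nat.card W = 4) {y z : W} (hy : y * y = 1)
    (hz : z * z = 1) (hy1 : y ≠ 1) (hz1 : z ≠ 1) (hyz : y ≠ z) (w : W) : w * w = 1 := by
  classical
  haveI : Finite W := Nat.finite_of_card_ne_zero (by omega)
  haveI := Fintype.ofFinite W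
  have h1 : y * z ≠ 1 := by
    intro h2
    apply hyz
    rw [eq_inv_of_mul_eq_one_left h2, inv_eq_of_mul_eq_one_left hz]
  have h2 : y * z ≠ y := by
    intro h2; exact hz1 (mul_eq_left.1 h2)
  have h3 : y * z ≠ z := by
    intro h2; exact hy1 (mul_eq_right.1 h2)
  have h1' : z * y ≠ 1 := by
    intro h2
    apply hyz
    rw [eq_inv_of_mul_eq_one_right h2, inv_eq_of_mul_eq_one_left hz]
  have h2' : z * y ≠ y := by
    intro h2; exact hz1 (mul_eq_right.1 h2)
  have h3' : z * y ≠ z := by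
    intro h2; exact hy1 (mul_eq_left.1 h2)
  have hcard : ({1, y, z, y * z} : Finset W).card = 4 := by
    rw [Finset.card_insert_of_notMem, Finset.card_insert_of_notMem, Finset.card_insert_of_notMem,
      Finset.card_singleton]
    · rw [Finset.mem_singleton]; exact h3.symm
    · rw [Finset.mem_insert, Finset.mem_singleton]
      rintro (h | h)
      · exact hyz h
      · exact h2 h.symm
    · rw [Finset.mem_insert, Finset.mem_insert, Finset.mem_singleton]
      rintro (h | h | h)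
      · exact hy1 h.symm
      · exact hz1 h.symm
      · exact h1 h.symm
  have huniv : ({1, y, z, y * z} : Finset W) = Finset.univ := by
    rw [← Finset.card_eq_iff_eq_univ, hcard, ← Nat.card_eq_fintype_card, h]
  have hmem : ∀ w : W, w = 1 ∨ w = y ∨ w = z ∨ w = y * z := by
    intro w
    have := Finset.mem_univ w
    rw [← huniv] at this
    simpa using this
  have hcomm : z * y = y * z := by
    rcases hmem (z * y) with h | h | h | h
    · exact absurd h h1'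
    · exact absurd h h2'
    · exact absurd h h3'
    · exact h
  rcases hmem w with h | h | h | h
  · rw [h, one_mul]
  · rw [h, hy]
  · rw [h, hz]
  · rw [h, mul_assoc, ← mul_assoc z, hcomm, mul_assoc, hz, mul_one, hy]

/-- **`-1 ∈ Ω` and `d² / c` in `Ω`: elementary abelian of order four.** -/
theorem pd_mod_inn_klein (hm : sg Q (ngI Q) = 1) {s : isometryGroup F (⇑Q)} (c : Fˣ)
    (hs : ∀ v : ι → F, (d.1 : Matrix ι ι F) *ᵥ ((d.1 : Matrix ι ι F) *ᵥ v) =
      (c : F) • (((s : GL ι F) : Matrix ι ι F) *ᵥ v)) (hs1 : sg Q s = 1)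
    (hs2 : ((s : GL ι F) : Matrix ι ι F).det = 1) :
    ∃ φ : ↥(pd hG h2 hn) →* Multiplicative (ZMod 2 × ZMod 2), Function.Surjective φ ∧
      φ.ker = (Inn (POmega F ⇑Q)).subgroupOf (pd hG h2 hn) := by
  haveI := inn_normal (Q := Q)
  have hN : ((Inn (POmega F ⇑Q)).subgroupOf (pd hG h2 hn)).Normal := inferInstance
  obtain ⟨t, ht1, ht2⟩ := exists_special hG h2
  have hcard := inn_relIndex_pd_four hG h2 hn hd hd2 hm
  refine Abs.exists_of_equiv (Abs.klein_of_card hcard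
    (sq_of_two hcard (y := QuotientGroup.mk ⟨S hG d, S_mem_pd hG h2 hn hd hd2⟩)
      (z := QuotientGroup.mk ⟨S hG (incI Q t), incI Q t, (etaS_incI_eq_one_iff hG h2 hn t).2 ht1, rfl⟩)
      ?_ ?_ ?_ ?_ ?_))
  · rw [← QuotientGroup.mk_mul, QuotientGroup.eq_one_iff]
    change S hG d * S hG d ∈ Inn (POmega F ⇑Q)
    rw [S_sq hG h2 hn hd hd2 c hs, mem_inn_iff hG h2 hn]
    exact ⟨hs2, Or.inl hs1⟩
  · rw [← QuotientGroup.mk_mul, QuotientGroup.eq_one_iff]
    change S hG (incI Q t) * S hG (incI Q t) ∈ Inn (POmega F ⇑Q)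
    rw [← map_mul, ← map_mul, mem_inn_iff hG h2 hn]
    refine ⟨?_, Or.inl ?_⟩
    · rw [Subgroup.coe_mul, Units.val_mul, Matrix.det_mul, ht1, one_mul]
    · rw [map_mul, ht2]; rfl
  · rw [Ne, QuotientGroup.eq_one_iff]
    intro h
    have h3 := (mem_pso_iff' hG h2 hn d).1 (inn_le_pso hG h2 hn h)
    rw [hd] at h3
    exact absurd h3.1 (by decide)
  · rw [Ne, QuotientGroup.eq_one_iff]
    intro h
    have h3 := (mem_inn_iff hG h2 hn t).1 h
    rw [hm, or_self, ht2] at h3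
    exact absurd h3.2 (by decide)
  · rw [Ne, QuotientGroup.eq]
    intro h
    have h4 : (S hG d)⁻¹ * S hG (incI Q t) ∈ Inn (POmega F ⇑Q) := h
    rw [← map_inv, ← map_mul] at h4
    have h3 := (mem_pso_iff' hG h2 hn _).1 (inn_le_pso hG h2 hn h4)
    rw [map_mul, map_inv, mu_incI, mul_one, map_inv, hd] at h3
    exact absurd h3.1 (by decide)

end Main

end Cfsg.Agent.H205.GenInn
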