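import Mathlib
import Cfsg.Agent.H198.Carriers
import Cfsg.Agent.H205.GenInn
set_option linter.all false

/-!
# Spinor signs of diagonal isometries, odd characteristic (helper205)

* `sg_hyp` : the isometry `e ↦ l e`, `f ↦ l⁻¹ f` of a hyperbolic pair has spinor sign `chi l`;
* `torP m : (Fin m → Fˣ) →* isometryGroup F (plusQ m F)` : `diag(d, d⁻¹)`, with spinor sign
  `∏ chi (d i)` and determinant 1; `sg_ngI_plus : sg (-1) = chi (-1) ^ m`;
* `delP m c : Sim (plusQ m F)` : `diag(c, 1)` with multiplier `c`, determinant `c ^ m`,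
  `delP_sq : diag(c, 1)² = c · torP c`.
-/

set_option autoImplicit false
set_option linter.style.haveILetI false
set_option linter.unusedSectionVars false

namespace Cfsg.Agent.H205.Torus

open Matrix QuadraticMap
open Cfsg.Agent.LieClassical.OrthCore Cfsg.Agent.LieClassical.OrthTrans
open Cfsg.Agent.H198.OrthFrame Cfsg.Agent.H205.Gen Cfsg.Agent.H205.GenInn
open Cfsg.Agent.H198.ClassesPlus (mu mu_spec mu_unique mu_eq_one_iff dt dt_apply)
open Cfsg.Agent.H198.Carriers
open Cfsg.Agent.ClassicalGeometry.Reflection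

universe u

variable {ι : Type} [Fintype ι] [DecidableEq ι] {F : Type u} [Field F]

section Hyp

variable {Q : QuadraticForm F (ι → F)}

theorem Q_sub_smul {e f : ι → F} (he : Q e = 0) (hf : Q f = 0) (hef : polar Q e f = 1) (l : F) :
    Q (e - l • f) = -l := by
  rw [sub_eq_add_neg, map_add', QuadraticMap.map_neg, QuadraticMap.map_smul, he, hf,
    QuadraticMap.polar_neg_right, QuadraticMap.polar_smul_right, hef]
  simp

/-- The torus element of a hyperbolic pair as a product of two reflections. -/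
theorem hyp_eq {e f : ι → F} (he : Q e = 0) (hf : Q f = 0) (hef : polar Q e f = 1) (l : Fˣ)
    (h1 : Q (e - (1 : F) • f) ≠ 0) (h2 : Q (e - (l : F) • f) ≠ 0)
    {h : isometryGroup F (⇑Q)} (hh : ∀ x, ((h : GL ι F) : Matrix ι ι F) *ᵥ x =
      x + (((l : F) - 1) * polar Q f x) • e + ((((l⁻¹ : Fˣ) : F) - 1) * polar Q e x) • f) :
    h = reflIso Q (e - (1 : F) • f) h1 * reflIso Q (e - (l : F) • f) h2 := by
  apply isometryGroup_ext
  intro x
  rw [hh, coe_mul_mulVec, coe_reflIso, coe_reflIso, reflectionMatrix_mulVec,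
    reflectionMatrix_mulVec, Q_sub_smul he hf hef, Q_sub_smul he hf hef]
  have hfe : polar Q f e = 1 := by rw [polar_comm]; exact hef
  have hee : polar Q e e = 0 := by rw [Cfsg.Agent.ClassicalGeometry.Reflection.polar_self', he, mul_zero]
  have hff : polar Q f f = 0 := by rw [Cfsg.Agent.ClassicalGeometry.Reflection.polar_self', hf, mul_zero]
  simp only [QuadraticMap.polar_sub_left, QuadraticMap.polar_smul_left, QuadraticMap.polar_sub_right,
    QuadraticMap.polar_smul_right, hfe, hef, hee, hff, smul_eq_mul]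
  have hl : (l : F) ≠ 0 := l.ne_zero
  rw [Units.val_inv_eq_inv_val]
  match_scalars
  · ring
  · field_simp
    ring
  · field_simp
    ring

variable [Finite F]

theorem sg_hyp (h2 : (2 : F) ≠ 0) {e f : ι → F} (he : Q e = 0) (hf : Q f = 0)
    (hef : polar Q e f = 1) (l : Fˣ) {h : isometryGroup F (⇑Q)}
    (hh : ∀ x, ((h : GL ι F) : Matrix ι ι F) *ᵥ x =
      x + (((l : F) - 1) * polar Q f x) • e + ((((l⁻¹ : Fˣ) : F) - 1) * polar Q e x) • f) :
    sg Q h = chi F l := by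
  have h3 : Q (e - (1 : F) • f) ≠ 0 := by
    rw [Q_sub_smul he hf hef]; exact neg_ne_zero.2 one_ne_zero
  have h4 : Q (e - (l : F) • f) ≠ 0 := by
    rw [Q_sub_smul he hf hef]; exact neg_ne_zero.2 l.ne_zero
  rw [hyp_eq he hf hef l h3 h4 hh, map_mul, sg_reflIso h2, sg_reflIso h2]
  have h5 : Units.mk0 (Q (e - (1 : F) • f)) h3 = -1 := by
    apply Units.ext
    rw [Units.val_mk0, Q_sub_smul he hf hef, Units.val_neg, Units.val_one]
  have h6 : Units.mk0 (Q (e - (l : F) • f)) h4 = -1 * l := by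
    apply Units.ext
    rw [Units.val_mk0, Q_sub_smul he hf hef, Units.val_mul, Units.val_neg, Units.val_one, neg_one_mul]
  rw [h5, h6, map_mul]
  rcases Int.units_eq_one_or (chi F (-1)) with h | h <;> rw [h] <;> simp

end Hyp

/-! ### Diagonal matrices -/

/-- Diagonal matrices. -/
def dgH (ι : Type) [Fintype ι] [DecidableEq ι] (F : Type u) [Field F] : (ι → Fˣ) →* GL ι F where
  toFun w := ⟨Matrix.diagonal fun i => (w i : F), Matrix.diagonal fun i => ((w⁻¹ i : Fˣ) : F), by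
    rw [Matrix.diagonal_mul_diagonal, ← Matrix.diagonal_one]
    congr 1
    funext i
    rw [← Units.val_mul, Pi.inv_apply, mul_inv_cancel, Units.val_one], by
    rw [Matrix.diagonal_mul_diagonal, ← Matrix.diagonal_one]
    congr 1
    funext i
    rw [← Units.val_mul, Pi.inv_apply, inv_mul_cancel, Units.val_one]⟩
  map_one' := by
    apply Units.ext
    change Matrix.diagonal (fun i => ((1 : ι → Fˣ) i : F)) = 1
    rw [← Matrix.diagonal_one]
    rfl
  map_mul' v w := by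
    apply Units.ext
    change Matrix.diagonal (fun i => ((v * w) i : F)) =
      Matrix.diagonal (fun i => (v i : F)) * Matrix.diagonal (fun i => (w i : F))
    rw [Matrix.diagonal_mul_diagonal]
    rfl

theorem dgH_mulVec (w : ι → Fˣ) (x : ι → F) (i : ι) :
    ((dgH ι F w : Matrix ι ι F) *ᵥ x) i = (w i : F) * x i := by
  change (Matrix.diagonal (fun i => (w i : F)) *ᵥ x) i = _
  rw [Matrix.mulVec_diagonal]

theorem det_dgH (w : ι → Fˣ) : (dgH ι F w : Matrix ι ι F).det = ∏ i, (w i : F) := by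
  change (Matrix.diagonal (fun i => (w i : F))).det = _
  rw [Matrix.det_diagonal]

/-! ### Plus type -/

section Plus

variable (m : ℕ)

/-- The weights of the torus. -/
def wP (F : Type u) [Field F] : (Fin m → Fˣ) →* (Fin m ⊕ Fin m → Fˣ) where
  toFun d := Sum.elim d d⁻¹
  map_one' := by
    funext i
    rcases i with i | i <;> simp
  map_mul' d d' := by
    funext i
    rcases i with i | i <;> simp [mul_comm]

theorem dgH_wP_mem (d : Fin m → Fˣ) : dgH (Fin m ⊕ Fin m) F (wP m F d) ∈ isometryGroup F ⇑(plusQ m F) := by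
  rw [mem_isometryGroup_iff]
  intro x
  change ∑ i : Fin m, _ = ∑ i : Fin m, _
  apply Finset.sum_congr rfl
  intro i _
  rw [dgH_mulVec, dgH_mulVec]
  change ((d i : Fˣ) : F) * x (.inl i) * ((((d i)⁻¹ : Fˣ) : F) * x (.inr i)) = _
  rw [Units.val_inv_eq_inv_val]
  have := (d i).ne_zero
  field_simp

/-- The torus of the plus-type form. -/
def torP (F : Type u) [Field F] : (Fin m → Fˣ) →* isometryGroup F ⇑(plusQ m F) :=
  ((dgH (Fin m ⊕ Fin m) F).comp (wP m F)).codRestrict _ fun d => dgH_wP_mem m d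

theorem torP_mulVec_inl (d : Fin m → Fˣ) (x : Fin m ⊕ Fin m → F) (i : Fin m) :
    (((torP m F d : GL (Fin m ⊕ Fin m) F) : Matrix (Fin m ⊕ Fin m) (Fin m ⊕ Fin m) F) *ᵥ x) (.inl i) = (d i : F) * x (.inl i) :=
  dgH_mulVec _ _ _

theorem torP_mulVec_inr (d : Fin m → Fˣ) (x : Fin m ⊕ Fin m → F) (i : Fin m) :
    (((torP m F d : GL (Fin m ⊕ Fin m) F) : Matrix (Fin m ⊕ Fin m) (Fin m ⊕ Fin m) F) *ᵥ x) (.inr i) =
      (((d i)⁻¹ : Fˣ) : F) * x (.inr i) :=
  dgH_mulVec _ _ _

theorem det_torP (d : Fin m → Fˣ) :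
    ((torP m F d : GL (Fin m ⊕ Fin m) F) : Matrix (Fin m ⊕ Fin m) (Fin m ⊕ Fin m) F).det = 1 := by
  change (dgH (Fin m ⊕ Fin m) F (wP m F d) : Matrix (Fin m ⊕ Fin m) (Fin m ⊕ Fin m) F).det = 1
  rw [det_dgH, Fintype.prod_sum_type, ← Finset.prod_mul_distrib]
  apply Finset.prod_eq_one
  intro i _
  change ((d i : Fˣ) : F) * (((d i)⁻¹ : Fˣ) : F) = 1
  rw [← Units.val_mul, mul_inv_cancel, Units.val_one]

theorem polar_plusQ (u v : Fin m ⊕ Fin m → F) : polar (plusQ m F) u v =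
    ∑ i : Fin m, (u (.inl i) * v (.inr i) + v (.inl i) * u (.inr i)) := by
  change (∑ i : Fin m, (u + v) (.inl i) * (u + v) (.inr i)) - (∑ i : Fin m, u (.inl i) * u (.inr i)) -
    (∑ i : Fin m, v (.inl i) * v (.inr i)) = _
  simp only [Pi.add_apply, ← Finset.sum_sub_distrib]
  exact Finset.sum_congr rfl fun i _ => by ring

theorem torP_mulSingle (i : Fin m) (l : Fˣ) (x : Fin m ⊕ Fin m → F) :
    ((torP m F (Pi.mulSingle i l) : GL (Fin m ⊕ Fin m) F) : Matrix (Fin m ⊕ Fin m) (Fin m ⊕ Fin m) F) *ᵥ x =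
      x + (((l : F) - 1) * polar (plusQ m F) (Pi.single (.inr i) 1) x) • Pi.single (.inl i) (1 : F) +
        ((((l⁻¹ : Fˣ) : F) - 1) * polar (plusQ m F) (Pi.single (.inl i) 1) x) •
          Pi.single (.inr i) (1 : F) := by
  have h1 : polar (plusQ m F) (Pi.single (.inr i) 1) x = x (.inl i) := by
    rw [polar_plusQ]
    simp [Pi.single_apply]
  have h2 : polar (plusQ m F) (Pi.single (.inl i) 1) x = x (.inr i) := by
    rw [polar_plusQ]
    simp [Pi.single_apply]
  rw [h1, h2]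
  funext j
  rcases j with j | j
  · rw [torP_mulVec_inl]
    by_cases hj : j = i
    · subst hj
      simp
      ring
    · simp [hj]
  · rw [torP_mulVec_inr]
    by_cases hj : j = i
    · subst hj
      simp
      ring
    · simp [hj]

theorem plusQ_apply (x : Fin m ⊕ Fin m → F) :
    plusQ m F x = ∑ i : Fin m, x (.inl i) * x (.inr i) := rfl

variable [Finite F]

theorem sg_torP_mulSingle (h2 : (2 : F) ≠ 0) (i : Fin m) (l : Fˣ) :
    sg (plusQ m F) (torP m F (Pi.mulSingle i l)) = chi F l := by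
  have he : plusQ m F (Pi.single (.inl i) 1) = 0 := by
    rw [plusQ_apply]
    apply Finset.sum_eq_zero
    intro j _
    simp
  have hf : plusQ m F (Pi.single (.inr i) 1) = 0 := by
    rw [plusQ_apply]
    apply Finset.sum_eq_zero
    intro j _
    simp
  have hef : polar (plusQ m F) (Pi.single (.inl i) 1) (Pi.single (.inr i) 1) = 1 := by
    rw [polar_plusQ]
    simp [Pi.single_apply]
  exact sg_hyp h2 he hf hef l (torP_mulSingle m i l)

theorem sg_torP (h2 : (2 : F) ≠ 0) (d : Fin m → Fˣ) :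
    sg (plusQ m F) (torP m F d) = ∏ i, chi F (d i) := by
  have h1 : ((sg (plusQ m F)).comp (torP m F)) (∏ i, Pi.mulSingle i (d i)) = ∏ i, chi F (d i) := by
    rw [map_prod]
    exact Finset.prod_congr rfl fun i _ => sg_torP_mulSingle m h2 i (d i)
  rw [Finset.univ_prod_mulSingle] at h1
  exact h1

omit [Finite F] in
theorem ngI_plus : ngI (plusQ m F) = torP m F (fun _ => -1) := by
  apply isometryGroup_ext
  intro x
  rw [ngI_mulVec]
  funext j
  rcases j with j | j
  · rw [torP_mulVec_inl]; simp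
  · rw [torP_mulVec_inr]; simp

theorem sg_ngI_plus (h2 : (2 : F) ≠ 0) : sg (plusQ m F) (ngI (plusQ m F)) = chi F (-1) ^ m := by
  rw [ngI_plus, sg_torP m h2]
  simp

theorem sg_torP_const (h2 : (2 : F) ≠ 0) (c : Fˣ) :
    sg (plusQ m F) (torP m F (fun _ => c)) = chi F c ^ m := by
  rw [sg_torP m h2]
  simp

omit [Finite F] in
theorem delP_mem (c : Fˣ) :
    dgH (Fin m ⊕ Fin m) F (Sum.elim (fun _ => c) fun _ => 1) ∈ Sim (plusQ m F) := by
  refine ⟨c, fun x => ?_⟩
  change ∑ i : Fin m, _ = (c : F) * ∑ i : Fin m, _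
  rw [Finset.mul_sum]
  apply Finset.sum_congr rfl
  intro i _
  rw [dgH_mulVec, dgH_mulVec]
  simp [mul_assoc]

/-- The similarity `diag(c, 1)`. -/
def delP (c : Fˣ) : Sim (plusQ m F) := ⟨_, delP_mem m c⟩

omit [Finite F] in
theorem mu_delP (hG : Good (plusQ m F)) (c : Fˣ) : mu hG (delP m c) = c := by
  apply mu_eq
  intro x
  change ∑ i : Fin m, _ = (c : F) * ∑ i : Fin m, _
  rw [Finset.mul_sum]
  apply Finset.sum_congr rfl
  intro i _
  change ((dgH (Fin m ⊕ Fin m) F (Sum.elim (fun _ => c) fun _ => 1) : Matrix (Fin m ⊕ Fin m) (Fin m ⊕ Fin m) F) *ᵥ x) _ *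
    ((dgH (Fin m ⊕ Fin m) F (Sum.elim (fun _ => c) fun _ => 1) : Matrix (Fin m ⊕ Fin m) (Fin m ⊕ Fin m) F) *ᵥ x) _ = _
  rw [dgH_mulVec, dgH_mulVec]
  simp [mul_assoc]

omit [Finite F] in
theorem dt_delP (c : Fˣ) : dt (delP m c) = c ^ m := by
  apply Units.ext
  rw [dt_apply]
  change (dgH (Fin m ⊕ Fin m) F (Sum.elim (fun _ => c) fun _ => 1) : Matrix (Fin m ⊕ Fin m) (Fin m ⊕ Fin m) F).det = _
  rw [det_dgH, Fintype.prod_sum_type]
  simp

omit [Finite F] in
theorem delP_sq (c : Fˣ) (x : Fin m ⊕ Fin m → F) :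
    ((delP m c).1 : Matrix (Fin m ⊕ Fin m) (Fin m ⊕ Fin m) F) *ᵥ (((delP m c).1 : Matrix (Fin m ⊕ Fin m) (Fin m ⊕ Fin m) F) *ᵥ x) =
      (c : F) • (((torP m F (fun _ => c) : GL (Fin m ⊕ Fin m) F) : Matrix (Fin m ⊕ Fin m) (Fin m ⊕ Fin m) F) *ᵥ x) := by
  funext j
  change ((dgH (Fin m ⊕ Fin m) F (Sum.elim (fun _ => c) fun _ => 1) : Matrix (Fin m ⊕ Fin m) (Fin m ⊕ Fin m) F) *ᵥ
    ((dgH (Fin m ⊕ Fin m) F (Sum.elim (fun _ => c) fun _ => 1) : Matrix (Fin m ⊕ Fin m) (Fin m ⊕ Fin m) F) *ᵥ x)) j = _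
  rw [dgH_mulVec, dgH_mulVec]
  rcases j with j | j
  · rw [Pi.smul_apply, torP_mulVec_inl]
    simp
  · rw [Pi.smul_apply, torP_mulVec_inr]
    simp

end Plus

end Cfsg.Agent.H205.Torus
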