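import Mathlib
import Cfsg.Agent.H205.Torus
set_option linter.all false

/-!
# Spinor signs in the minus-type orthogonal groups, odd characteristic (helper205)

* `torM m F a b : (Fin m → Fˣ) →* isometryGroup F (minusQ m F a b)` : `diag(d, d⁻¹, 1)`, spinor sign
  `∏ chi (d i)`, determinant 1;
* `rotM` : multiplication by `l / l̄` on the binary part (`l = x + y θ`), spinor sign `chi (N l)`;
* `sg_ngI_minus : sg (-1) = -chi (-1) ^ (m + 1)`;
* `delM` : `diag(c, 1)` and multiplication by `l` of norm `c`, a similarity with multiplier `c` and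
  determinant `c ^ (m + 1)`; `delM_sq : delM² = c · torM c · rotM l`.
-/

set_option autoImplicit false
set_option linter.style.haveILetI false
set_option linter.unusedSectionVars false

namespace Cfsg.Agent.H205.TorusMinus

open Matrix QuadraticMap
open Cfsg.Agent.LieClassical.OrthCore Cfsg.Agent.LieClassical.OrthTrans
open Cfsg.Agent.H198.OrthFrame Cfsg.Agent.H205.Gen Cfsg.Agent.H205.GenInn Cfsg.Agent.H205.Torus
open Cfsg.Agent.H198.ClassesPlus (mu mu_spec mu_unique mu_eq_one_iff dt dt_apply)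
open Cfsg.Agent.H198.Carriers
open Cfsg.Agent.ClassicalGeometry.Reflection

universe u

variable {F : Type u} [Field F] (m : ℕ) (a b : F)

/-- The index type. -/
abbrev Ix (m : ℕ) : Type := (Fin m ⊕ Fin m) ⊕ Fin 2

theorem minusQ_apply (x : Ix m → F) : minusQ m F a b x =
    (∑ i : Fin m, x (.inl (.inl i)) * x (.inl (.inr i))) +
      (x (.inr 0) ^ 2 + a * x (.inr 0) * x (.inr 1) + b * x (.inr 1) ^ 2) := rfl

theorem polar_minusQ (u v : Ix m → F) : polar (minusQ m F a b) u v =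
    ∑ i : Fin m, (u (.inl (.inl i)) * v (.inl (.inr i)) + v (.inl (.inl i)) * u (.inl (.inr i)))
      + (2 * u (.inr 0) * v (.inr 0) + a * (u (.inr 0) * v (.inr 1) + u (.inr 1) * v (.inr 0)) +
        2 * b * u (.inr 1) * v (.inr 1)) := by
  have h : (∑ i : Fin m, (u (.inl (.inl i)) * v (.inl (.inr i)) +
      v (.inl (.inl i)) * u (.inl (.inr i)))) =
      (∑ i : Fin m, (u (.inl (.inl i)) + v (.inl (.inl i))) * (u (.inl (.inr i)) + v (.inl (.inr i)))) -
      (∑ i : Fin m, u (.inl (.inl i)) * u (.inl (.inr i))) -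
      (∑ i : Fin m, v (.inl (.inl i)) * v (.inl (.inr i))) := by
    rw [← Finset.sum_sub_distrib, ← Finset.sum_sub_distrib]
    exact Finset.sum_congr rfl fun i _ => by ring
  rw [h, polar, minusQ_apply, minusQ_apply, minusQ_apply]
  simp only [Pi.add_apply]
  ring

/-! ### The torus -/

/-- The weights of the torus. -/
def wM (F : Type u) [Field F] : (Fin m → Fˣ) →* (Ix m → Fˣ) where
  toFun d := Sum.elim (Sum.elim d d⁻¹) 1
  map_one' := by
    funext i
    rcases i with (i | i) | i <;> simp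
  map_mul' d d' := by
    funext i
    rcases i with (i | i) | i <;> simp [mul_comm]

theorem dgH_wM_mem (d : Fin m → Fˣ) :
    dgH (Ix m) F (wM m F d) ∈ isometryGroup F ⇑(minusQ m F a b) := by
  rw [mem_isometryGroup_iff]
  intro x
  rw [minusQ_apply, minusQ_apply]
  congr 1
  · apply Finset.sum_congr rfl
    intro i _
    rw [dgH_mulVec, dgH_mulVec]
    change ((d i : Fˣ) : F) * x _ * ((((d i)⁻¹ : Fˣ) : F) * x _) = _
    rw [Units.val_inv_eq_inv_val]
    have := (d i).ne_zero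
    field_simp
  · rw [dgH_mulVec, dgH_mulVec]
    change ((1 : F) * _) ^ 2 + a * ((1 : F) * _) * ((1 : F) * _) + b * ((1 : F) * _) ^ 2 = _
    simp only [one_mul]

/-- The torus of the minus-type form. -/
def torM (F : Type u) [Field F] (a b : F) : (Fin m → Fˣ) →* isometryGroup F ⇑(minusQ m F a b) :=
  ((dgH (Ix m) F).comp (wM m F)).codRestrict _ fun d => dgH_wM_mem m a b d

theorem torM_inl (d : Fin m → Fˣ) (x : Ix m → F) (i : Fin m) :
    (((torM m F a b d : GL (Ix m) F) : Matrix (Ix m) (Ix m) F) *ᵥ x) (.inl (.inl i)) =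
      (d i : F) * x (.inl (.inl i)) :=
  dgH_mulVec _ _ _

theorem torM_inr (d : Fin m → Fˣ) (x : Ix m → F) (i : Fin m) :
    (((torM m F a b d : GL (Ix m) F) : Matrix (Ix m) (Ix m) F) *ᵥ x) (.inl (.inr i)) =
      (((d i)⁻¹ : Fˣ) : F) * x (.inl (.inr i)) :=
  dgH_mulVec _ _ _

theorem torM_bin (d : Fin m → Fˣ) (x : Ix m → F) (i : Fin 2) :
    (((torM m F a b d : GL (Ix m) F) : Matrix (Ix m) (Ix m) F) *ᵥ x) (.inr i) = x (.inr i) := by
  change ((dgH (Ix m) F (wM m F d) : Matrix (Ix m) (Ix m) F) *ᵥ x) (.inr i) = _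
  rw [dgH_mulVec]
  change (1 : F) * _ = _
  rw [one_mul]

theorem det_torM (d : Fin m → Fˣ) :
    ((torM m F a b d : GL (Ix m) F) : Matrix (Ix m) (Ix m) F).det = 1 := by
  change (dgH (Ix m) F (wM m F d) : Matrix (Ix m) (Ix m) F).det = 1
  rw [det_dgH, Fintype.prod_sum_type, Fintype.prod_sum_type, ← Finset.prod_mul_distrib]
  have h1 : ∏ i : Fin m, ((wM m F d (.inl (.inl i)) : Fˣ) : F) * ((wM m F d (.inl (.inr i)) : Fˣ) : F) = 1 := by
    apply Finset.prod_eq_one
    intro i _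
    change ((d i : Fˣ) : F) * (((d i)⁻¹ : Fˣ) : F) = 1
    rw [← Units.val_mul, mul_inv_cancel, Units.val_one]
  have h3 : ∏ i : Fin 2, ((wM m F d (.inr i) : Fˣ) : F) = 1 := by
    apply Finset.prod_eq_one
    intro i _
    rfl
  rw [h1, h3, one_mul]

theorem torM_mulSingle (i : Fin m) (l : Fˣ) (x : Ix m → F) :
    ((torM m F a b (Pi.mulSingle i l) : GL (Ix m) F) : Matrix (Ix m) (Ix m) F) *ᵥ x =
      x + (((l : F) - 1) * polar (minusQ m F a b) (Pi.single (.inl (.inr i)) 1) x) •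
          Pi.single (.inl (.inl i)) (1 : F) +
        ((((l⁻¹ : Fˣ) : F) - 1) * polar (minusQ m F a b) (Pi.single (.inl (.inl i)) 1) x) •
          Pi.single (.inl (.inr i)) (1 : F) := by
  have h1 : polar (minusQ m F a b) (Pi.single (.inl (.inr i)) 1) x = x (.inl (.inl i)) := by
    rw [polar_minusQ]
    simp [Pi.single_apply]
  have h2 : polar (minusQ m F a b) (Pi.single (.inl (.inl i)) 1) x = x (.inl (.inr i)) := by
    rw [polar_minusQ]
    simp [Pi.single_apply]
  rw [h1, h2]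
  funext j
  rcases j with (j | j) | j
  · rw [torM_inl]
    by_cases hj : j = i
    · subst hj
      simp
      ring
    · simp [hj]
  · rw [torM_inr]
    by_cases hj : j = i
    · subst hj
      simp
      ring
    · simp [hj]
  · rw [torM_bin]
    simp

/-! ### Rotations of the binary part -/

/-- The vector `x + y θ` of the binary part. -/
def bv (x y : F) : Ix m → F := Sum.elim (fun _ => 0) ![x, y]

theorem bv_zero (x y : F) : bv m x y (.inr 0) = x := rfl

theorem bv_one (x y : F) : bv m x y (.inr 1) = y := rfl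

theorem bv_inl (x y : F) (i : Fin m ⊕ Fin m) : bv m x y (.inl i) = 0 := rfl

theorem minusQ_bv (x y : F) : minusQ m F a b (bv m x y) = x ^ 2 + a * x * y + b * y ^ 2 := by
  rw [minusQ_apply]
  simp [bv]

theorem polar_bv (x y : F) (v : Ix m → F) : polar (minusQ m F a b) (bv m x y) v =
    2 * x * v (.inr 0) + a * (x * v (.inr 1) + y * v (.inr 0)) + 2 * b * y * v (.inr 1) := by
  rw [polar_minusQ]
  simp [bv]

/-- Multiplication by `l / l̄`, `l = x + y θ`, on the binary part. -/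
def rotM {x y : F} (h : minusQ m F a b (bv m x y) ≠ 0) (h1 : minusQ m F a b (bv m 1 0) ≠ 0) :
    isometryGroup F ⇑(minusQ m F a b) :=
  reflIso (minusQ m F a b) _ h * reflIso (minusQ m F a b) _ h1

theorem det_rotM {x y : F} (h : minusQ m F a b (bv m x y) ≠ 0)
    (h1 : minusQ m F a b (bv m 1 0) ≠ 0) :
    ((rotM m a b h h1 : GL (Ix m) F) : Matrix (Ix m) (Ix m) F).det = 1 := by
  rw [rotM, Subgroup.coe_mul, Units.val_mul, Matrix.det_mul, det_reflIso, det_reflIso]
  ring

theorem rotM_inl {x y : F} (h : minusQ m F a b (bv m x y) ≠ 0)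
    (h1 : minusQ m F a b (bv m 1 0) ≠ 0) (v : Ix m → F) (i : Fin m ⊕ Fin m) :
    (((rotM m a b h h1 : GL (Ix m) F) : Matrix (Ix m) (Ix m) F) *ᵥ v) (.inl i) = v (.inl i) := by
  rw [rotM, coe_mul_mulVec, coe_reflIso, coe_reflIso, reflectionMatrix_mulVec,
    reflectionMatrix_mulVec]
  simp [bv]

theorem rotM_zero {x y : F} (h : minusQ m F a b (bv m x y) ≠ 0)
    (h1 : minusQ m F a b (bv m 1 0) ≠ 0) (v : Ix m → F) :
    (x ^ 2 + a * x * y + b * y ^ 2) *
      (((rotM m a b h h1 : GL (Ix m) F) : Matrix (Ix m) (Ix m) F) *ᵥ v) (.inr 0) =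
      (x ^ 2 - b * y ^ 2) * v (.inr 0) - b * (2 * x * y + a * y ^ 2) * v (.inr 1) := by
  have h' := h
  rw [minusQ_bv] at h'
  rw [rotM, coe_mul_mulVec, coe_reflIso, coe_reflIso, reflectionMatrix_mulVec,
    reflectionMatrix_mulVec, polar_bv, polar_bv, minusQ_bv, minusQ_bv]
  simp only [Pi.sub_apply, Pi.smul_apply, smul_eq_mul, bv_zero, bv_one]
  obtain ⟨N, hN⟩ : ∃ N, N = x ^ 2 + a * x * y + b * y ^ 2 := ⟨_, rfl⟩
  rw [← hN] at h' ⊢
  have h3 : (1 : F) ^ 2 + a * 1 * 0 + b * 0 ^ 2 = 1 := by ring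
  rw [h3, inv_one, one_mul]
  field_simp
  rw [hN]
  ring

theorem rotM_one {x y : F} (h : minusQ m F a b (bv m x y) ≠ 0)
    (h1 : minusQ m F a b (bv m 1 0) ≠ 0) (v : Ix m → F) :
    (x ^ 2 + a * x * y + b * y ^ 2) *
      (((rotM m a b h h1 : GL (Ix m) F) : Matrix (Ix m) (Ix m) F) *ᵥ v) (.inr 1) =
      (2 * x * y + a * y ^ 2) * v (.inr 0) +
        (x ^ 2 - b * y ^ 2 + a * (2 * x * y + a * y ^ 2)) * v (.inr 1) := by
  have h' := h
  rw [minusQ_bv] at h'
  rw [rotM, coe_mul_mulVec, coe_reflIso, coe_reflIso, reflectionMatrix_mulVec,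
    reflectionMatrix_mulVec, polar_bv, polar_bv, minusQ_bv, minusQ_bv]
  simp only [Pi.sub_apply, Pi.smul_apply, smul_eq_mul, bv_zero, bv_one]
  obtain ⟨N, hN⟩ : ∃ N, N = x ^ 2 + a * x * y + b * y ^ 2 := ⟨_, rfl⟩
  rw [← hN] at h' ⊢
  have h3 : (1 : F) ^ 2 + a * 1 * 0 + b * 0 ^ 2 = 1 := by ring
  rw [h3, inv_one, one_mul]
  field_simp
  rw [hN]
  ring

theorem Q_one_ne : minusQ m F a b (bv m 1 0) ≠ 0 := by
  rw [minusQ_bv]
  have h3 : (1 : F) ^ 2 + a * 1 * 0 + b * 0 ^ 2 = 1 := by ring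
  rw [h3]
  exact one_ne_zero

/-! ### The similarity with multiplier `c` -/

/-- The matrix of `diag(c, 1)` and of multiplication by `x + y θ`. -/
def delMat (c x y : F) : Matrix (Ix m) (Ix m) F :=
  Matrix.fromBlocks (Matrix.diagonal (Sum.elim (fun _ => c) fun _ => 1)) 0 0
    !![x, -(b * y); y, x + a * y]

theorem det_delMat (c x y : F) :
    (delMat m a b c x y).det = c ^ m * (x ^ 2 + a * x * y + b * y ^ 2) := by
  rw [delMat, Matrix.det_fromBlocks_zero₂₁, Matrix.det_diagonal, Matrix.det_fin_two_of,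
    Fintype.prod_sum_type]
  simp only [Sum.elim_inl, Sum.elim_inr, Finset.prod_const, Finset.card_univ, Fintype.card_fin,
    one_pow, mul_one]
  ring

theorem delMat_inl (c x y : F) (v : Ix m → F) (i : Fin m) :
    (delMat m a b c x y *ᵥ v) (.inl (.inl i)) = c * v (.inl (.inl i)) := by
  rw [delMat, Matrix.fromBlocks_mulVec]
  simp [Matrix.mulVec_diagonal]

theorem delMat_inr (c x y : F) (v : Ix m → F) (i : Fin m) :
    (delMat m a b c x y *ᵥ v) (.inl (.inr i)) = v (.inl (.inr i)) := by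
  rw [delMat, Matrix.fromBlocks_mulVec]
  simp [Matrix.mulVec_diagonal]

theorem delMat_zero (c x y : F) (v : Ix m → F) :
    (delMat m a b c x y *ᵥ v) (.inr 0) = x * v (.inr 0) - b * y * v (.inr 1) := by
  rw [delMat, Matrix.fromBlocks_mulVec]
  simp [Matrix.vecHead, Matrix.vecTail]
  ring

theorem delMat_one (c x y : F) (v : Ix m → F) :
    (delMat m a b c x y *ᵥ v) (.inr 1) = y * v (.inr 0) + (x + a * y) * v (.inr 1) := by
  rw [delMat, Matrix.fromBlocks_mulVec]
  simp [Matrix.vecHead, Matrix.vecTail]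

theorem minusQ_delMat {c x y : F} (h : x ^ 2 + a * x * y + b * y ^ 2 = c) (v : Ix m → F) :
    minusQ m F a b (delMat m a b c x y *ᵥ v) = c * minusQ m F a b v := by
  rw [minusQ_apply, minusQ_apply, mul_add, Finset.mul_sum]
  congr 1
  · apply Finset.sum_congr rfl
    intro i _
    rw [delMat_inl, delMat_inr, mul_assoc]
  · rw [delMat_zero, delMat_one, ← h]
    ring

/-- `diag(c, 1)` and multiplication by `x + y θ` of norm `c`. -/
noncomputable def delM {c x y : F} (hc : c ≠ 0) (h : x ^ 2 + a * x * y + b * y ^ 2 = c) :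
    Sim (minusQ m F a b) :=
  ⟨Matrix.GeneralLinearGroup.mkOfDetNeZero (delMat m a b c x y) (by
      rw [det_delMat, h]
      exact mul_ne_zero (pow_ne_zero _ hc) hc),
    Units.mk0 c hc, minusQ_delMat m a b h⟩

theorem coe_delM {c x y : F} (hc : c ≠ 0) (h : x ^ 2 + a * x * y + b * y ^ 2 = c) :
    ((delM m a b hc h).1 : Matrix (Ix m) (Ix m) F) = delMat m a b c x y := rfl

theorem mu_delM (hG : Good (minusQ m F a b)) {c x y : F} (hc : c ≠ 0)
    (h : x ^ 2 + a * x * y + b * y ^ 2 = c) : mu hG (delM m a b hc h) = Units.mk0 c hc := by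
  apply mu_eq
  intro v
  rw [coe_delM, minusQ_delMat m a b h, Units.val_mk0]

theorem dt_delM {c x y : F} (hc : c ≠ 0) (h : x ^ 2 + a * x * y + b * y ^ 2 = c) :
    dt (delM m a b hc h) = Units.mk0 c hc ^ (m + 1) := by
  apply Units.ext
  rw [dt_apply]
  change (delMat m a b c x y).det = _
  rw [det_delMat, h, Units.val_pow_eq_pow_val, Units.val_mk0, pow_succ]

theorem minusQ_bv_ne {c x y : F} (hc : c ≠ 0) (h : x ^ 2 + a * x * y + b * y ^ 2 = c) :
    minusQ m F a b (bv m x y) ≠ 0 := by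
  rw [minusQ_bv, h]; exact hc

theorem delM_sq {c x y : F} (hc : c ≠ 0) (h : x ^ 2 + a * x * y + b * y ^ 2 = c) (v : Ix m → F) :
    ((delM m a b hc h).1 : Matrix (Ix m) (Ix m) F) *ᵥ
        (((delM m a b hc h).1 : Matrix (Ix m) (Ix m) F) *ᵥ v) =
      ((Units.mk0 c hc : Fˣ) : F) • ((((torM m F a b (fun _ => Units.mk0 c hc) *
        rotM m a b (minusQ_bv_ne m a b hc h) (Q_one_ne m a b) : isometryGroup F ⇑(minusQ m F a b)) :
        GL (Ix m) F) : Matrix (Ix m) (Ix m) F) *ᵥ v) := by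
  rw [coe_delM, coe_mul_mulVec]
  funext j
  rw [Pi.smul_apply, smul_eq_mul, Units.val_mk0]
  rcases j with (j | j) | j
  · rw [delMat_inl, delMat_inl, torM_inl, rotM_inl, Units.val_mk0]
  · rw [delMat_inr, delMat_inr, torM_inr, rotM_inl, Units.val_inv_eq_inv_val, Units.val_mk0,
      mul_inv_cancel_left₀ hc]
  · rw [torM_bin]
    fin_cases j
    · change (delMat m a b c x y *ᵥ (delMat m a b c x y *ᵥ v)) (.inr 0) = c * (_ : Ix m → F) (.inr 0)
      rw [delMat_zero, delMat_zero, delMat_one]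
      have := rotM_zero m a b (minusQ_bv_ne m a b hc h) (Q_one_ne m a b) v
      rw [h] at this
      rw [this]
      ring
    · change (delMat m a b c x y *ᵥ (delMat m a b c x y *ᵥ v)) (.inr 1) = c * (_ : Ix m → F) (.inr 1)
      rw [delMat_one, delMat_zero, delMat_one]
      have := rotM_one m a b (minusQ_bv_ne m a b hc h) (Q_one_ne m a b) v
      rw [h] at this
      rw [this]
      ring

/-! ### Signs -/

section Sign

variable [Finite F]

theorem sg_torM_mulSingle (h2 : (2 : F) ≠ 0) (i : Fin m) (l : Fˣ) :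
    sg (minusQ m F a b) (torM m F a b (Pi.mulSingle i l)) = chi F l := by
  have he : minusQ m F a b (Pi.single (.inl (.inl i)) 1) = 0 := by
    rw [minusQ_apply, Finset.sum_eq_zero]
    · simp
    · intro j _
      simp
  have hf : minusQ m F a b (Pi.single (.inl (.inr i)) 1) = 0 := by
    rw [minusQ_apply, Finset.sum_eq_zero]
    · simp
    · intro j _
      simp
  have hef : polar (minusQ m F a b) (Pi.single (.inl (.inl i)) 1)
      (Pi.single (.inl (.inr i)) 1) = 1 := by
    rw [polar_minusQ]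
    simp [Pi.single_apply]
  exact sg_hyp h2 he hf hef l (torM_mulSingle m a b i l)

theorem sg_torM (h2 : (2 : F) ≠ 0) (d : Fin m → Fˣ) :
    sg (minusQ m F a b) (torM m F a b d) = ∏ i, chi F (d i) := by
  have h1 : ((sg (minusQ m F a b)).comp (torM m F a b)) (∏ i, Pi.mulSingle i (d i)) =
      ∏ i, chi F (d i) := by
    rw [map_prod]
    exact Finset.prod_congr rfl fun i _ => sg_torM_mulSingle m a b h2 i (d i)
  rw [Finset.univ_prod_mulSingle] at h1
  exact h1

theorem sg_torM_const (h2 : (2 : F) ≠ 0) (c : Fˣ) :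
    sg (minusQ m F a b) (torM m F a b (fun _ => c)) = chi F c ^ m := by
  rw [sg_torM m a b h2]
  simp

theorem sg_rotM (h2 : (2 : F) ≠ 0) {c x y : F} (hc : c ≠ 0)
    (h : x ^ 2 + a * x * y + b * y ^ 2 = c) :
    sg (minusQ m F a b) (rotM m a b (minusQ_bv_ne m a b hc h) (Q_one_ne m a b)) =
      chi F (Units.mk0 c hc) := by
  rw [rotM, map_mul, sg_reflIso h2, sg_reflIso h2]
  have h5 : Units.mk0 (minusQ m F a b (bv m x y)) (minusQ_bv_ne m a b hc h) = Units.mk0 c hc := by
    apply Units.ext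
    rw [Units.val_mk0, Units.val_mk0, minusQ_bv, h]
  have h6 : Units.mk0 (minusQ m F a b (bv m 1 0)) (Q_one_ne m a b) = 1 := by
    apply Units.ext
    rw [Units.val_mk0, minusQ_bv, Units.val_one]
    ring
  rw [h5, h6, map_one, neg_mul_neg, mul_one]

variable (hab : ∀ z₁ z₂ : F, z₁ ^ 2 + a * z₁ * z₂ + b * z₂ ^ 2 = 0 → z₁ = 0 ∧ z₂ = 0)

include hab

theorem disc_not_square (h2 : (2 : F) ≠ 0) : ¬ IsSquare (a ^ 2 - 4 * b) := by
  rintro ⟨s, hs⟩
  have h := hab (s - a) 2 (by linear_combination -hs)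
  exact h2 h.2

theorem disc_ne (h2 : (2 : F) ≠ 0) : a ^ 2 - 4 * b ≠ 0 := by
  intro h
  apply disc_not_square a b hab h2
  rw [h]
  exact IsSquare.zero

theorem ngI_minus (hc : -(a ^ 2 - 4 * b) ≠ 0)
    (h : (-a) ^ 2 + a * (-a) * 2 + b * 2 ^ 2 = -(a ^ 2 - 4 * b)) :
    ngI (minusQ m F a b) = torM m F a b (fun _ => -1) *
      rotM m a b (minusQ_bv_ne m a b hc h) (Q_one_ne m a b) := by
  apply isometryGroup_ext
  intro v
  rw [ngI_mulVec, coe_mul_mulVec]
  funext j
  rcases j with (j | j) | j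
  · rw [torM_inl, rotM_inl]; simp
  · rw [torM_inr, rotM_inl]; simp
  · rw [torM_bin]
    fin_cases j
    · change -(v (.inr 0)) = (_ : Ix m → F) (.inr 0)
      have := rotM_zero m a b (minusQ_bv_ne m a b hc h) (Q_one_ne m a b) v
      rw [h] at this
      apply mul_left_cancel₀ hc
      rw [this]
      ring
    · change -(v (.inr 1)) = (_ : Ix m → F) (.inr 1)
      have := rotM_one m a b (minusQ_bv_ne m a b hc h) (Q_one_ne m a b) v
      rw [h] at this
      apply mul_left_cancel₀ hc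
      rw [this]
      ring

theorem sg_ngI_minus (h2 : (2 : F) ≠ 0) :
    sg (minusQ m F a b) (ngI (minusQ m F a b)) = -chi F (-1) ^ (m + 1) := by
  have hc : -(a ^ 2 - 4 * b) ≠ 0 := neg_ne_zero.2 (disc_ne a b hab h2)
  have h : (-a) ^ 2 + a * (-a) * 2 + b * 2 ^ 2 = -(a ^ 2 - 4 * b) := by ring
  rw [ngI_minus m a b hab hc h, map_mul, sg_torM_const m a b h2, sg_rotM m a b h2 hc h]
  have h3 : Units.mk0 _ hc = -1 * Units.mk0 _ (disc_ne a b hab h2) := by
    apply Units.ext
    rw [Units.val_mk0, Units.val_mul, Units.val_mk0, Units.val_neg, Units.val_one, neg_one_mul]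
  rw [h3, map_mul, (chi_eq_neg_one_iff (Units.mk0 _ (disc_ne a b hab h2))).2
    (disc_not_square a b hab h2), pow_succ]
  simp

end Sign

end Cfsg.Agent.H205.TorusMinus
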